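import Cfsg.Agent.Lib.ChevCore.TorusGroup
import Mathlib.GroupTheory.Sylow
import Mathlib.GroupTheory.OrderOfElement
import Mathlib.LinearAlgebra.Matrix.Charpoly.Coeff

/-!
Sections of a group with an abelian subgroup whose fusion is given by integer matrices: two commuting
elements of different prime orders and the eigenvalues of their common automiser (helper12).
-/

set_option autoImplicit false

namespace Cfsg.Agent.AltTorus12

open Cfsg.Agent.ChevCore Matrix Finset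

variable {n : ℕ}

theorem mpow_add {M : Type*} [CommGroup M] (A B : Matrix (Fin n) (Fin n) ℤ) (c : Fin n → M) :
    mpow (A + B) c = mpow A c * mpow B c := by
  funext j
  simp only [Pi.mul_apply, mpow_apply, Matrix.add_apply, _root_.zpow_add, Finset.prod_mul_distrib]

theorem mpow_zero {M : Type*} [CommGroup M] (c : Fin n → M) :
    mpow (0 : Matrix (Fin n) (Fin n) ℤ) c = 1 := by
  funext j
  simp [mpow_apply]

theorem mpow_smul {M : Type*} [CommGroup M] (z : ℤ) (A : Matrix (Fin n) (Fin n) ℤ) (c : Fin n → M) :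
    mpow (z • A) c = mpow A c ^ z := by
  funext j
  simp only [Pi.pow_apply, mpow_apply, Matrix.smul_apply, smul_eq_mul, prod_zpow', ← _root_.zpow_mul]
  exact Finset.prod_congr rfl fun k _ => by rw [mul_comm]

/-- Fusion data of an abelian subgroup. -/
structure Toral (G : Type*) [Group G] (M : Type*) [CommGroup M] (n : ℕ) where
  /-- the torus -/
  T : Subgroup G
  /-- coordinates -/
  ψ : ↥T →* (Fin n → M)
  /-- the matrices -/
  S : Set (Matrix (Fin n) (Fin n) ℤ)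
  /-- their exponent -/
  e : ℕ
  inj : Function.Injective ψ
  pow_e : ∀ A ∈ S, A ^ e = 1
  fuse : ∀ g : G, ∃ A ∈ S, ∀ (x : ↥T) (h : g * x * g⁻¹ ∈ T), ψ ⟨_, h⟩ = mpow A (ψ x)

/-! ### Sylow lemmas -/

theorem exists_conj_top {G : Type*} [Group G] [Finite G] {ℓ : ℕ} [Fact ℓ.Prime] (T P : Subgroup G)
    (hT : ¬ ℓ ∣ T.index) (hP : IsPGroup ℓ P) : ∃ g : G, ∀ x ∈ P, g * x * g⁻¹ ∈ T := by
  obtain ⟨R, hR⟩ := hP.exists_le_sylow
  obtain ⟨Q⟩ : Nonempty (Sylow ℓ ↥T) := inferInstance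
  have hQ : Nat.card ↥((Q : Subgroup ↥T).map T.subtype) = ℓ ^ (Nat.card G).factorization ℓ := by
    rw [Subgroup.card_map_of_injective Subtype.coe_injective, Q.card_eq_multiplicity,
      ← T.index_mul_card, Nat.factorization_mul Subgroup.index_ne_zero_of_finite Nat.card_pos.ne',
      Finsupp.add_apply, Nat.factorization_eq_zero_of_not_dvd hT, zero_add]
  obtain ⟨g, hg⟩ := MulAction.exists_smul_eq G R (Sylow.ofCard _ hQ)
  refine ⟨g, fun x hx => Subgroup.map_subtype_le (Q : Subgroup ↥T) ?_⟩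
  have h1 : g * x * g⁻¹ ∈ ((g • R : Sylow ℓ G) : Subgroup G) := by
    rw [Sylow.coe_subgroup_smul]; exact ⟨x, hR hx, rfl⟩
  rw [hg] at h1
  exact h1

theorem exists_conj_in {G : Type*} [Group G] [Finite G] {ℓ : ℕ} [Fact ℓ.Prime] (T P D : Subgroup G)
    (hT : ¬ ℓ ∣ T.index) (hP : IsPGroup ℓ P) (hTD : T ≤ D) (hPD : P ≤ D) :
    ∃ g ∈ D, ∀ x ∈ P, g * x * g⁻¹ ∈ T := by
  obtain ⟨g, hg⟩ := exists_conj_top (T.subgroupOf D) (P.subgroupOf D)
    (fun h => hT (h.trans ⟨D.index, (Subgroup.relIndex_mul_index hTD).symm⟩))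
    (hP.of_equiv (Subgroup.subgroupOfEquivOfLe hPD).symm)
  exact ⟨g, g.2, fun x hx => hg ⟨x, hPD hx⟩ hx⟩

theorem frattini {H : Type*} [Group H] [Finite H] {ℓ : ℕ} [Fact ℓ.Prime] (L : Subgroup H)
    (P : Sylow ℓ ↥L) (y : H) (hy : ∀ x ∈ L, y * x * y⁻¹ ∈ L) :
    ∃ l ∈ L, ∀ x ∈ (P : Subgroup ↥L).map L.subtype,
      l * y * x * (l * y)⁻¹ ∈ (P : Subgroup ↥L).map L.subtype := by
  set P' := (P : Subgroup ↥L).map L.subtype with hP'
  have hcard : Nat.card ↥((P'.map (MulAut.conj y).toMonoidHom).subgroupOf L) =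
      ℓ ^ (Nat.card ↥L).factorization ℓ := by
    have hle : P'.map (MulAut.conj y).toMonoidHom ≤ L := by
      rintro _ ⟨x, hx, rfl⟩
      exact hy x (Subgroup.map_subtype_le _ hx)
    rw [Nat.card_congr (Subgroup.subgroupOfEquivOfLe hle).toEquiv,
      Subgroup.card_map_of_injective (MulAut.conj y).injective, hP',
      Subgroup.card_map_of_injective Subtype.coe_injective, P.card_eq_multiplicity]
  obtain ⟨l, hl⟩ := MulAction.exists_smul_eq ↥L (Sylow.ofCard _ hcard) P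
  refine ⟨l, l.2, fun x hx => ?_⟩
  have h1 : y * x * y⁻¹ ∈ L := hy x (Subgroup.map_subtype_le _ hx)
  refine ⟨l * ⟨_, h1⟩ * l⁻¹, ?_, by simp [mul_assoc]⟩
  rw [← hl]
  show l * ⟨_, h1⟩ * l⁻¹ ∈ ((l • Sylow.ofCard _ hcard : Sylow ℓ ↥L) : Subgroup ↥L)
  rw [Sylow.coe_subgroup_smul]
  exact ⟨⟨_, h1⟩, ⟨x, hx, rfl⟩, rfl⟩

theorem exists_map_eq {H A : Type*} [Group H] [Group A] [Finite H] {ℓ : ℕ} [hℓ : Fact ℓ.Prime]
    (f : H →* A) {a : A} (ha : orderOf a = ℓ) (L : Subgroup H)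
    (hL : ∀ x ∈ L, f x ∈ Subgroup.zpowers a) (hex : ∃ x ∈ L, f x ≠ 1) (P : Sylow ℓ ↥L) :
    ∃ z ∈ (P : Subgroup ↥L).map L.subtype, f z = a := by
  have hP : Nat.card (Subgroup.zpowers a) = ℓ := by rw [Nat.card_zpowers, ha]
  haveI : Finite (Subgroup.zpowers a) := Nat.finite_of_card_ne_zero (hP ▸ hℓ.out.ne_zero)
  have hmap : ((P : Subgroup ↥L).map L.subtype).map f = Subgroup.zpowers a := by
    let g : ↥L →* A := f.comp L.subtype
    have h1 : g.range = Subgroup.zpowers a := by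
      haveI : Fact (Nat.card (Subgroup.zpowers a)).Prime := ⟨hP.symm ▸ hℓ.out⟩
      have hle : g.range ≤ Subgroup.zpowers a := by
        rintro _ ⟨w, rfl⟩; exact hL w w.2
      rcases (g.range.subgroupOf (Subgroup.zpowers a)).eq_bot_or_eq_top_of_prime_card with h | h
      · obtain ⟨x, hx, hx1⟩ := hex
        have : (⟨f x, hL x hx⟩ : Subgroup.zpowers a) ∈ g.range.subgroupOf (Subgroup.zpowers a) :=
          ⟨⟨x, hx⟩, rfl⟩
        rw [h, Subgroup.mem_bot] at this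
        exact absurd (congrArg Subtype.val this) hx1
      · exact le_antisymm hle (Subgroup.subgroupOf_eq_top.1 h)
    have hle : (P : Subgroup ↥L).map g ≤ Subgroup.zpowers a := h1 ▸ Subgroup.map_le_range g _
    rw [Subgroup.map_map]
    refine Subgroup.eq_of_le_of_card_ge hle (hP.le.trans ?_)
    rcases (Nat.dvd_prime hℓ.out).1 (hP ▸ Subgroup.card_dvd_of_le hle) with h | h
    · exfalso
      have h2 : (P : Subgroup ↥L) ≤ g.ker := fun w hw => by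
        have : g w ∈ (P : Subgroup ↥L).map g := ⟨w, hw, rfl⟩
        rwa [Subgroup.card_eq_one.1 h, Subgroup.mem_bot] at this
      have h3 : g.ker.index = ℓ := by rw [Subgroup.index_ker, h1, hP]
      have h4 := Subgroup.index_dvd_of_le h2
      rw [h3] at h4
      exact P.not_dvd_index h4
    · exact h.ge
  have := hmap.symm ▸ Subgroup.mem_zpowers a
  exact this

/-! ### The eigenvalue of an automiser -/

variable {G M : Type*} [Group G] [CommGroup M] (X : Toral G M n) {H : Type*} [Group H]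

/-- Iterates of an element inducing a matrix. -/
theorem Toral.iterate (ι : H →* G) (P : Subgroup H) (hP : ∀ x ∈ P, ι x ∈ X.T) (y : H)
    (hy : ∀ x ∈ P, y * x * y⁻¹ ∈ P) (B : Matrix (Fin n) (Fin n) ℤ)
    (hB : ∀ (x : ↥X.T) (h : ι y * x * (ι y)⁻¹ ∈ X.T), X.ψ ⟨_, h⟩ = mpow B (X.ψ x)) :
    ∀ (k : ℕ) (x : H) (hx : x ∈ P), ∃ h : y ^ k * x * (y ^ k)⁻¹ ∈ P,
      X.ψ ⟨_, hP _ h⟩ = mpow (B ^ k) (X.ψ ⟨_, hP _ hx⟩) := by
  intro k
  induction k with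
  | zero =>
    intro x hx
    refine ⟨by simpa using hx, ?_⟩
    rw [pow_zero B, mpow_one]
    congr 2
    simp
  | succ k ih =>
    intro x hx
    obtain ⟨h1, h2⟩ := ih x hx
    have e : y ^ (k + 1) * x * (y ^ (k + 1))⁻¹ = y * (y ^ k * x * (y ^ k)⁻¹) * y⁻¹ := by
      rw [pow_succ']; group
    refine ⟨e ▸ hy _ h1, ?_⟩
    have e2 : ι y * ι (y ^ k * x * (y ^ k)⁻¹) * (ι y)⁻¹ = ι (y ^ (k + 1) * x * (y ^ (k + 1))⁻¹) := by
      rw [e]; simp [mul_assoc]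
    rw [pow_succ' B, mpow_mul, ← h2, ← hB ⟨_, hP _ h1⟩ (e2 ▸ hP _ (e ▸ hy _ h1))]
    congr 2
    exact e2.symm

/-- An eigenvalue of an element on a cyclic quotient of a toral subgroup. -/
theorem Toral.eigen {A : Type*} [Group A] (ι : H →* G) (hι : Function.Injective ι) (f : H →* A)
    (P : Subgroup H) (hP : ∀ x ∈ P, ι x ∈ X.T) (y : H) (hy : ∀ x ∈ P, y * x * y⁻¹ ∈ P)
    (B : Matrix (Fin n) (Fin n) ℤ)
    (hB : ∀ (x : ↥X.T) (h : ι y * x * (ι y)⁻¹ ∈ X.T), X.ψ ⟨_, h⟩ = mpow B (X.ψ x))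
    {a : A} {s : ℕ} {z : H} (hz : z ∈ P) (hfz : f z = a) (hya : f y * a * (f y)⁻¹ = a ^ s) :
    a ^ ((Matrix.scalar (Fin n) (s : ℤ) - B).det) = 1 := by
  have hit := X.iterate ι P hP y hy B hB
  have hconj : ∀ k : ℕ, f (y ^ k * z * (y ^ k)⁻¹) = a ^ s ^ k := by
    intro k
    induction k with
    | zero => simp [hfz]
    | succ k ih =>
      calc f (y ^ (k + 1) * z * (y ^ (k + 1))⁻¹) = f y * f (y ^ k * z * (y ^ k)⁻¹) * (f y)⁻¹ := by
            simp only [map_mul, map_inv, map_pow, pow_succ']; group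
        _ = a ^ s ^ (k + 1) := by rw [ih, ← conj_pow, hya, ← pow_mul, pow_succ']
  set c := B.charpoly.coeff with hc
  have hu : ∀ k, y ^ k * z * (y ^ k)⁻¹ ∈ P := fun k => (hit k z hz).1
  have key : ∀ m : ℕ, ∃ w : ↥P, f w = a ^ (∑ k ∈ range m, c k * (s : ℤ) ^ k) ∧
      X.ψ ⟨ι w, hP _ w.2⟩ = mpow (∑ k ∈ range m, c k • B ^ k) (X.ψ ⟨ι z, hP _ hz⟩) := by
    intro m
    induction m with
    | zero =>
      refine ⟨1, by simp, ?_⟩
      rw [Finset.range_zero, Finset.sum_empty, mpow_zero, ← map_one X.ψ]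
      congr 1
      exact Subtype.ext (map_one ι)
    | succ m ih =>
      obtain ⟨w, h1, h2⟩ := ih
      refine ⟨w * ⟨_, hu m⟩ ^ c m, ?_, ?_⟩
      · rw [Subgroup.coe_mul, Subgroup.coe_zpow, map_mul, map_zpow, h1, hconj, Finset.sum_range_succ,
          _root_.zpow_add, mul_comm (c m), _root_.zpow_mul, ← Nat.cast_pow, zpow_natCast]
      · rw [Finset.sum_range_succ, mpow_add, mpow_smul, ← h2, ← (hit m z hz).2, ← map_zpow, ← map_mul]
        congr 1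
        exact Subtype.ext (by simp)
  obtain ⟨w, h1, h2⟩ := key (n + 1)
  have hd : B.charpoly.natDegree < n + 1 := by
    rw [Matrix.charpoly_natDegree_eq_dim, Fintype.card_fin]; omega
  have hCH : ∑ k ∈ range (n + 1), c k • B ^ k = 0 := by
    rw [hc, ← Polynomial.aeval_eq_sum_range' hd, Matrix.aeval_self_charpoly]
  have hev : ∑ k ∈ range (n + 1), c k * (s : ℤ) ^ k = (Matrix.scalar (Fin n) (s : ℤ) - B).det := by
    rw [hc, ← Polynomial.eval_eq_sum_range' hd, Matrix.eval_charpoly]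
  rw [hCH, mpow_zero, ← map_one X.ψ] at h2
  have h3 : ι w = 1 := congrArg Subtype.val (X.inj h2)
  rw [← hev, ← h1, hι (h3.trans (map_one ι).symm), map_one]

theorem dvd_of_zpow {A : Type*} [Group A] {a : A} {ℓ : ℕ} (ha : orderOf a = ℓ) {d : ℤ}
    (h : a ^ d = 1) : (ℓ : ℤ) ∣ d := ha ▸ orderOf_dvd_iff_zpow_eq_one.2 h

/-- A single prime. -/
theorem Toral.exists_eigen [Finite G] {ℓ : ℕ} [Fact ℓ.Prime] (hT : ¬ ℓ ∣ X.T.index)
    {A : Type*} [Group A] (ι : H →* G) (hι : Function.Injective ι) (f : H →* A)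
    (hf : Function.Surjective f) (a b : A) (ha : orderOf a = ℓ) {s : ℕ} (hab : b * a * b⁻¹ = a ^ s) :
    ∃ B ∈ X.S, (ℓ : ℤ) ∣ (Matrix.scalar (Fin n) (s : ℤ) - B).det := by
  haveI : Finite H := Finite.of_injective ι hι
  have hbZ : ∀ z ∈ Subgroup.zpowers a, b * z * b⁻¹ ∈ Subgroup.zpowers a := by
    rintro z ⟨i, rfl⟩
    rw [show b * a ^ i * b⁻¹ = (b * a * b⁻¹) ^ i from (conj_zpow).symm, hab]
    exact zpow_mem (pow_mem (Subgroup.mem_zpowers a) s) i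
  obtain ⟨y, hy⟩ := hf b
  set L := (Subgroup.zpowers a).comap f with hL
  have hyL : ∀ x ∈ L, y * x * y⁻¹ ∈ L := fun x hx => by
    show f (y * x * y⁻¹) ∈ Subgroup.zpowers a
    rw [map_mul, map_mul, map_inv, hy]
    exact hbZ _ hx
  obtain ⟨P⟩ : Nonempty (Sylow ℓ ↥L) := inferInstance
  obtain ⟨l, hl, hnorm⟩ := frattini L P y hyL
  obtain ⟨x, hx⟩ := hf a
  have ha1 : a ≠ 1 := fun e => (Fact.out : ℓ.Prime).one_lt.ne' (ha.symm.trans (e ▸ orderOf_one))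
  obtain ⟨z, hz, hfz⟩ := exists_map_eq f ha L (fun _ h => h)
    ⟨x, show f x ∈ Subgroup.zpowers a by rw [hx]; exact Subgroup.mem_zpowers a, by rw [hx]; exact ha1⟩ P
  obtain ⟨g, hg⟩ := exists_conj_top X.T (((P : Subgroup ↥L).map L.subtype).map ι) hT
    ((P.isPGroup'.map L.subtype).map ι)
  let κ : H →* G := (MulAut.conj g).toMonoidHom.comp ι
  obtain ⟨B, hB, hB'⟩ := X.fuse (κ (l * y))
  refine ⟨B, hB, dvd_of_zpow ha (X.eigen κ ((MulAut.conj g).injective.comp hι) f _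
    (fun w hw => hg _ ⟨w, hw, rfl⟩) (l * y) hnorm B hB' hz hfz ?_)⟩
  obtain ⟨i, hi⟩ : ∃ i : ℤ, f l = a ^ i := by
    obtain ⟨i, hi⟩ := hl; exact ⟨i, hi.symm⟩
  rw [map_mul, hi, hy, show a ^ i * b * a * (a ^ i * b)⁻¹ = a ^ i * (b * a * b⁻¹) * (a ^ i)⁻¹ by group, hab]
  group

/-- Two primes at once. -/
theorem Toral.exists_eigen_pair [Finite G] {ℓ₁ ℓ₂ : ℕ} [hp₁ : Fact ℓ₁.Prime] [hp₂ : Fact ℓ₂.Prime]
    (hne : ℓ₁ ≠ ℓ₂) (he : ¬ ℓ₂ ∣ X.e) (hT₁ : ¬ ℓ₁ ∣ X.T.index) (hT₂ : ¬ ℓ₂ ∣ X.T.index)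
    {A : Type*} [Group A] (ι : H →* G) (hι : Function.Injective ι) (f : H →* A)
    (hf : Function.Surjective f) (a₁ a₂ b : A) (ha₁ : orderOf a₁ = ℓ₁) (ha₂ : orderOf a₂ = ℓ₂)
    (hcom : Commute a₁ a₂) {s₁ s₂ : ℕ} (hb₁ : b * a₁ * b⁻¹ = a₁ ^ s₁) (hb₂ : b * a₂ * b⁻¹ = a₂ ^ s₂) :
    ∃ B ∈ X.S, (ℓ₁ : ℤ) ∣ (Matrix.scalar (Fin n) (s₁ : ℤ) - B).det ∧
      (ℓ₂ : ℤ) ∣ (Matrix.scalar (Fin n) (s₂ : ℤ) - B).det := by
  haveI : Finite H := Finite.of_injective ι hι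
  set L := (Subgroup.zpowers a₁).comap f with hL
  have hnZ : ∀ (c : A) (s : ℕ), c * a₁ * c⁻¹ = a₁ ^ s → ∀ x, f x = c → ∀ w ∈ L, x * w * x⁻¹ ∈ L := by
    intro c s hc x hx w hw
    obtain ⟨i, hi⟩ := hw
    show f (x * w * x⁻¹) ∈ Subgroup.zpowers a₁
    rw [map_mul, map_mul, map_inv, hx, ← hi,
      show c * a₁ ^ i * c⁻¹ = (c * a₁ * c⁻¹) ^ i from (conj_zpow).symm, hc]
    exact zpow_mem (pow_mem (Subgroup.mem_zpowers a₁) s) i
  obtain ⟨y₀, hy₀⟩ := hf b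
  obtain ⟨x₂, hx₂⟩ := hf a₂
  obtain ⟨x₁, hx₁⟩ := hf a₁
  obtain ⟨P⟩ : Nonempty (Sylow ℓ₁ ↥L) := inferInstance
  set P' := (P : Subgroup ↥L).map L.subtype with hP'
  obtain ⟨l, hl, hnorm⟩ := frattini L P y₀ (hnZ b s₁ hb₁ y₀ hy₀)
  have hcc : a₂ * a₁ * a₂⁻¹ = a₁ ^ 1 := by rw [← hcom.eq, mul_inv_cancel_right, pow_one]
  obtain ⟨m, hm, hnorm₂⟩ := frattini L P x₂ (hnZ a₂ 1 hcc x₂ hx₂)
  have ne_one : ∀ {a : A} {ℓ : ℕ}, ℓ.Prime → orderOf a = ℓ → a ≠ 1 := fun hp ha e =>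
    hp.one_lt.ne' (ha.symm.trans (e ▸ orderOf_one))
  obtain ⟨z₁, hz₁, hfz₁⟩ := exists_map_eq f ha₁ L (fun _ h => h)
    ⟨x₁, show f x₁ ∈ Subgroup.zpowers a₁ by rw [hx₁]; exact Subgroup.mem_zpowers a₁, by rw [hx₁]; exact ne_one hp₁.out ha₁⟩ P
  obtain ⟨g, hg⟩ := exists_conj_top X.T (P'.map ι) hT₁ ((P.isPGroup'.map L.subtype).map ι)
  let κ : H →* G := (MulAut.conj g).toMonoidHom.comp ι
  have hκ : Function.Injective κ := (MulAut.conj g).injective.comp hι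
  have hκP : ∀ w ∈ P', κ w ∈ X.T := fun w hw => hg _ ⟨w, hw, rfl⟩
  -- a power centralising `P'`
  obtain ⟨B₀, hB₀, hB₀'⟩ := X.fuse (κ (m * x₂))
  have hcent : ∀ w ∈ P', (m * x₂) ^ X.e * w * ((m * x₂) ^ X.e)⁻¹ = w := by
    intro w hw
    obtain ⟨h1, h2⟩ := X.iterate κ P' hκP _ hnorm₂ B₀ hB₀' X.e w hw
    rw [X.pow_e _ hB₀, mpow_one] at h2
    exact hκ (congrArg Subtype.val (X.inj h2))
  set C := Subgroup.centralizer (P' : Set H) ⊓ (Subgroup.zpowers a₂).comap f with hC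
  obtain ⟨i, hi⟩ : ∃ i : ℤ, f l = a₁ ^ i := by
    obtain ⟨i, hi⟩ := hl; exact ⟨i, hi.symm⟩
  obtain ⟨j, hj⟩ : ∃ j : ℤ, f m = a₁ ^ j := by
    obtain ⟨j, hj⟩ := hm; exact ⟨j, hj.symm⟩
  set u := (m * x₂) ^ (X.e * ℓ₁) with hu
  have hfu : f u = a₂ ^ (X.e * ℓ₁) := by
    rw [hu, map_pow, map_mul, hj, hx₂, (hcom.zpow_left j).mul_pow, ← zpow_natCast (a₁ ^ j), ← _root_.zpow_mul]
    have h : a₁ ^ ℓ₁ = 1 := ha₁ ▸ pow_orderOf_eq_one a₁
    rw [Nat.cast_mul, show j * ((X.e : ℤ) * (ℓ₁ : ℤ)) = (ℓ₁ : ℤ) * (j * X.e) by ring, _root_.zpow_mul,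
      zpow_natCast, h, _root_.one_zpow, one_mul]
  have huC : u ∈ C := by
    refine ⟨?_, show f u ∈ Subgroup.zpowers a₂ by rw [hfu]; exact Subgroup.pow_mem _ (Subgroup.mem_zpowers a₂) _⟩
    rw [hu, pow_mul]
    refine pow_mem (Subgroup.mem_centralizer_iff.2 fun w hw => ?_) _
    exact (mul_inv_eq_iff_eq_mul.1 (hcent w hw)).symm
  have hfu1 : f u ≠ 1 := by
    rw [hfu, Ne, ← orderOf_dvd_iff_pow_eq_one, ha₂]
    exact fun h => (hp₂.out.dvd_mul.1 h).elim he fun h => hne ((Nat.prime_dvd_prime_iff_eq hp₂.out hp₁.out).1 h).symm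
  set y := l * y₀ with hy
  have hfy : f y = a₁ ^ i * b := by rw [hy, map_mul, hi, hy₀]
  have hy₂ : f y * a₂ * (f y)⁻¹ = a₂ ^ s₂ := by
    rw [hfy, show a₁ ^ i * b * a₂ * (a₁ ^ i * b)⁻¹ = a₁ ^ i * (b * a₂ * b⁻¹) * (a₁ ^ i)⁻¹ by group, hb₂,
      ((hcom.zpow_left i).pow_right s₂).eq, mul_inv_cancel_right]
  have hyC : ∀ w ∈ C, y * w * y⁻¹ ∈ C := by
    rintro w ⟨hw1, ⟨k, hk⟩⟩
    refine ⟨Subgroup.mem_centralizer_iff.2 fun v hv => ?_, show f (y * w * y⁻¹) ∈ Subgroup.zpowers a₂ from ?_⟩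
    · have hsurj : ∃ v' ∈ P', y * v' * y⁻¹ = v := by
        have hfin : (P' : Set H).Finite := Set.toFinite _
        obtain ⟨v', hv', e⟩ := (hfin.injOn_iff_bijOn_of_mapsTo (f := fun x => y * x * y⁻¹) hnorm).1
          (fun _ _ _ _ e => mul_left_cancel (mul_right_cancel e)) |>.surjOn hv
        exact ⟨v', hv', e⟩
      obtain ⟨v', hv', rfl⟩ := hsurj
      have := Subgroup.mem_centralizer_iff.1 hw1 v' hv'
      calc y * v' * y⁻¹ * (y * w * y⁻¹) = y * (v' * w) * y⁻¹ := by group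
        _ = y * (w * v') * y⁻¹ := by rw [this]
        _ = _ := by group
    · rw [map_mul, map_mul, map_inv, ← hk, show f y * a₂ ^ k * (f y)⁻¹ = (f y * a₂ * (f y)⁻¹) ^ k from
        (conj_zpow).symm, hy₂]
      exact zpow_mem (pow_mem (Subgroup.mem_zpowers a₂) _) k
  obtain ⟨Q⟩ : Nonempty (Sylow ℓ₂ ↥C) := inferInstance
  set Q' := (Q : Subgroup ↥C).map C.subtype with hQ'
  obtain ⟨c, hc, hnormQ⟩ := frattini C Q y hyC
  obtain ⟨z₂, hz₂, hfz₂⟩ := exists_map_eq f ha₂ C (fun _ h => h.2) ⟨u, huC, hfu1⟩ Q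
  -- move `Q'` into the torus without moving `P'`
  have hTle : X.T ≤ Subgroup.centralizer (P'.map κ : Set G) := by
    intro t ht
    rw [Subgroup.mem_centralizer_iff]
    rintro _ ⟨w, hw, rfl⟩
    exact congrArg Subtype.val (X.inj (a₁ := ⟨_, hκP w hw⟩ * ⟨t, ht⟩) (a₂ := ⟨t, ht⟩ * ⟨_, hκP w hw⟩)
      (by rw [map_mul, map_mul, mul_comm]))
  have hQle : Q'.map κ ≤ Subgroup.centralizer (P'.map κ : Set G) := by
    rintro _ ⟨q, hq, rfl⟩
    rw [Subgroup.mem_centralizer_iff]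
    rintro _ ⟨w, hw, rfl⟩
    rw [← map_mul, ← map_mul, Subgroup.mem_centralizer_iff.1 (Subgroup.map_subtype_le _ hq : q ∈ C).1 w hw]
  obtain ⟨d, hd, hd'⟩ := exists_conj_in X.T (Q'.map κ) _ hT₂ ((Q.isPGroup'.map C.subtype).map κ) hTle hQle
  let θ : H →* G := (MulAut.conj d).toMonoidHom.comp κ
  have hθ : Function.Injective θ := (MulAut.conj d).injective.comp hκ
  have hθP : ∀ w ∈ P', θ w ∈ X.T := fun w hw => by
    show d * κ w * d⁻¹ ∈ X.T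
    rw [← Subgroup.mem_centralizer_iff.1 hd _ ⟨w, hw, rfl⟩, mul_inv_cancel_right]
    exact hκP w hw
  have hθQ : ∀ w ∈ Q', θ w ∈ X.T := fun w hw => hd' _ ⟨w, hw, rfl⟩
  obtain ⟨B, hB, hB'⟩ := X.fuse (θ (c * y))
  have hnormP : ∀ w ∈ P', c * y * w * (c * y)⁻¹ ∈ P' := fun w hw => by
    have h1 := hnorm w hw
    rw [show c * y * w * (c * y)⁻¹ = c * (y * w * y⁻¹) * c⁻¹ by group,
      ← Subgroup.mem_centralizer_iff.1 hc.1 _ h1, mul_inv_cancel_right]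
    exact h1
  obtain ⟨k, hk⟩ : ∃ k : ℤ, f c = a₂ ^ k := by
    obtain ⟨k, hk⟩ := hc.2; exact ⟨k, hk.symm⟩
  refine ⟨B, hB, dvd_of_zpow ha₁ (X.eigen θ hθ f P' hθP _ hnormP B hB' hz₁ hfz₁ ?_),
    dvd_of_zpow ha₂ (X.eigen θ hθ f Q' hθQ _ hnormQ B hB' hz₂ hfz₂ ?_)⟩
  · rw [map_mul, hk, hfy, show a₂ ^ k * (a₁ ^ i * b) * a₁ * (a₂ ^ k * (a₁ ^ i * b))⁻¹ =
      a₂ ^ k * (a₁ ^ i * (b * a₁ * b⁻¹) * (a₁ ^ i)⁻¹) * (a₂ ^ k)⁻¹ by group, hb₁,
      show a₁ ^ i * a₁ ^ s₁ * (a₁ ^ i)⁻¹ = a₁ ^ s₁ by group,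
      ← ((hcom.pow_left s₁).zpow_right k).eq, mul_inv_cancel_right]
  · rw [map_mul, hk, show a₂ ^ k * f y * a₂ * (a₂ ^ k * f y)⁻¹ = a₂ ^ k * (f y * a₂ * (f y)⁻¹) * (a₂ ^ k)⁻¹ by group,
      hy₂]
    group

end Cfsg.Agent.AltTorus12
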