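import Mathlib.LinearAlgebra.Matrix.Determinant.Basic
import Mathlib.Tactic.FinCases
import Mathlib.Tactic.Ring
import Mathlib.Data.List.GetD

/-!
The matrices of the Weyl group of type F4 by a coset certificate, and two eigenvalue checks over all of
them (helper12).
-/

set_option autoImplicit false

namespace Cfsg.Agent.AltTorus12

/-- a row of four integers -/
structure V4 where
  a : ℤ
  b : ℤ
  c : ℤ
  d : ℤ
deriving DecidableEq

/-- four rows -/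
structure M4 where
  r0 : V4
  r1 : V4
  r2 : V4
  r3 : V4
deriving DecidableEq

/-- a combination of the rows of `B` -/
def V4.comb (v : V4) (B : M4) : V4 :=
  ⟨v.a * B.r0.a + v.b * B.r1.a + v.c * B.r2.a + v.d * B.r3.a,
   v.a * B.r0.b + v.b * B.r1.b + v.c * B.r2.b + v.d * B.r3.b,
   v.a * B.r0.c + v.b * B.r1.c + v.c * B.r2.c + v.d * B.r3.c,
   v.a * B.r0.d + v.b * B.r1.d + v.c * B.r2.d + v.d * B.r3.d⟩

/-- the product -/
def M4.mul (A B : M4) : M4 := ⟨A.r0.comb B, A.r1.comb B, A.r2.comb B, A.r3.comb B⟩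

/-- the identity -/
def M4.one : M4 := ⟨⟨1, 0, 0, 0⟩, ⟨0, 1, 0, 0⟩, ⟨0, 0, 1, 0⟩, ⟨0, 0, 0, 1⟩⟩

/-- the matrix -/
def M4.toM (A : M4) : Matrix (Fin 4) (Fin 4) ℤ :=
  !![A.r0.a, A.r0.b, A.r0.c, A.r0.d; A.r1.a, A.r1.b, A.r1.c, A.r1.d;
    A.r2.a, A.r2.b, A.r2.c, A.r2.d; A.r3.a, A.r3.b, A.r3.c, A.r3.d]

theorem M4.toM_mul (A B : M4) : (A.mul B).toM = A.toM * B.toM := by
  ext i j
  fin_cases i <;> fin_cases j <;>
    simp [M4.toM, M4.mul, V4.comb, Matrix.mul_apply, Fin.sum_univ_four]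

theorem M4.toM_one : M4.one.toM = 1 := by
  ext i j
  fin_cases i <;> fin_cases j <;> simp [M4.toM, M4.one]

theorem M4.one_mul (A : M4) : M4.one.mul A = A := by simp [M4.one, M4.mul, V4.comb]

theorem M4.mul_assoc' (A B C : M4) : (A.mul B).mul C = A.mul (B.mul C) := by
  simp only [M4.mul, V4.comb, M4.mk.injEq, V4.mk.injEq]
  refine ⟨⟨?_, ?_, ?_, ?_⟩, ⟨?_, ?_, ?_, ?_⟩, ⟨?_, ?_, ?_, ?_⟩, ⟨?_, ?_, ?_, ?_⟩⟩ <;> ring

theorem M4.mul_one (A : M4) : A.mul M4.one = A := by simp [M4.one, M4.mul, V4.comb]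

/-- the fundamental reflections -/
def f4R : ℕ → M4
  | 0 => ⟨⟨-1, 0, 0, 0⟩, ⟨1, 1, 0, 0⟩, ⟨0, 0, 1, 0⟩, ⟨0, 0, 0, 1⟩⟩
  | 1 => ⟨⟨1, 1, 0, 0⟩, ⟨0, -1, 0, 0⟩, ⟨0, 2, 1, 0⟩, ⟨0, 0, 0, 1⟩⟩
  | 2 => ⟨⟨1, 0, 0, 0⟩, ⟨0, 1, 1, 0⟩, ⟨0, 0, -1, 0⟩, ⟨0, 0, 1, 1⟩⟩
  | 3 => ⟨⟨1, 0, 0, 0⟩, ⟨0, 1, 0, 0⟩, ⟨0, 0, 1, 1⟩, ⟨0, 0, 0, -1⟩⟩
  | _ => M4.one

/-- the matrix of a word -/
def evalW : List ℕ → M4
  | [] => M4.one
  | i :: w => (f4R i).mul (evalW w)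

/-- the cosets of the parabolic chain: representatives, and what a generator does to each -/
def f4Levels : List (List (List ℕ) × List (List (List ℕ × ℕ))) := [
  ([[], [0]],
   [[([], 1)], [([], 0)]]),
  ([[], [1], [1, 0]],
   [[([0], 0), ([], 1)], [([], 2), ([], 0)], [([], 1), ([0], 2)]]),
  ([[], [2], [2, 1], [2, 1, 0], [2, 1, 2], [2, 1, 0, 2], [2, 1, 0, 2, 1], [2, 1, 0, 2, 1, 2]],
   [[([0], 0), ([1], 0), ([], 1)], [([0], 1), ([], 2), ([], 0)], [([], 3), ([], 1), ([], 4)], [([], 2), ([0], 3), ([], 5)], [([], 5), ([1], 4), ([], 2)], [([], 4), ([], 6), ([], 3)], [([1], 6), ([], 5), ([], 7)], [([1], 7), ([0], 7), ([], 6)]]),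
  ([[], [3], [3, 2], [3, 2, 1], [3, 2, 1, 0], [3, 2, 1, 2], [3, 2, 1, 0, 2], [3, 2, 1, 2, 3], [3, 2, 1, 0, 2, 1], [3, 2, 1, 0, 2, 3], [3, 2, 1, 0, 2, 1, 2], [3, 2, 1, 0, 2, 1, 3], [3, 2, 1, 0, 2, 1, 2, 3], [3, 2, 1, 0, 2, 1, 3, 2], [3, 2, 1, 0, 2, 1, 2, 3, 2], [3, 2, 1, 0, 2, 1, 3, 2, 1], [3, 2, 1, 0, 2, 1, 2, 3, 2, 1], [3, 2, 1, 0, 2, 1, 3, 2, 1, 0], [3, 2, 1, 0, 2, 1, 2, 3, 2, 1, 0], [3, 2, 1, 0, 2, 1, 2, 3, 2, 1, 2], [3, 2, 1, 0, 2, 1, 2, 3, 2, 1, 0, 2], [3, 2, 1, 0, 2, 1, 2, 3, 2, 1, 0, 2, 1], [3, 2, 1, 0, 2, 1, 2, 3, 2, 1, 0, 2, 1, 2], [3, 2, 1, 0, 2, 1, 2, 3, 2, 1, 0, 2, 1, 2, 3]],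
   [[([0], 0), ([1], 0), ([2], 0), ([], 1)], [([0], 1), ([1], 1), ([], 2), ([], 0)], [([0], 2), ([], 3), ([], 1), ([2], 2)], [([], 4), ([], 2), ([], 5), ([2], 3)], [([], 3), ([0], 4), ([], 6), ([2], 4)], [([], 6), ([1], 5), ([], 3), ([], 7)], [([], 5), ([], 8), ([], 4), ([], 9)], [([], 9), ([1], 7), ([2], 7), ([], 5)], [([1], 8), ([], 6), ([], 10), ([], 11)], [([], 7), ([], 11), ([2], 9), ([], 6)], [([1], 10), ([0], 10), ([], 8), ([], 12)], [([1], 11), ([], 9), ([], 13), ([], 8)], [([1], 12), ([0], 12), ([], 14), ([], 10)], [([1], 13), ([], 15), ([], 11), ([], 14)], [([1], 14), ([], 16), ([], 12), ([], 13)], [([], 17), ([], 13), ([2], 15), ([], 16)], [([], 18), ([], 14), ([], 19), ([], 15)], [([], 15), ([1], 17), ([2], 17), ([], 18)], [([], 16), ([1], 18), ([], 20), ([], 17)], [([], 20), ([0], 19), ([], 16), ([2], 19)], [([], 19), ([], 21), ([], 18), ([2], 20)], [([0], 21),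 ([], 20), ([], 22), ([2], 21)], [([0], 22), ([1], 22), ([], 21), ([], 23)], [([0], 23), ([1], 23), ([2], 23), ([], 22)]])]

/-- the elements of the parabolic subgroup of a given rank -/
def f4Elts : ℕ → List M4
  | 0 => [M4.one]
  | k + 1 => (f4Elts k).flatMap fun x => ((f4Levels.getD k ([], [])).1).map fun w => x.mul (evalW w)

/-- check one level -/
def checkLevel (k : ℕ) : Bool :=
  let L := f4Levels.getD k ([], [])
  (L.1.getD 0 [0] == []) && decide (0 < L.1.length) &&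
  (List.range L.1.length).all fun r => (List.range (k + 1)).all fun g =>
    let e := (L.2.getD r []).getD g ([], L.1.length)
    e.1.all (fun i => decide (i < k)) && decide (e.2 < L.1.length) &&
      decide ((evalW (L.1.getD r [])).mul (f4R g) = (evalW e.1).mul (evalW (L.1.getD e.2 [])))

theorem f4_checkLevel : (List.range 4).all checkLevel = true := by decide +kernel

theorem evalW_mul_mem {S : List M4} {k : ℕ} (h : ∀ x ∈ S, ∀ g < k, x.mul (f4R g) ∈ S) :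
    ∀ w : List ℕ, (∀ i ∈ w, i < k) → ∀ x ∈ S, x.mul (evalW w) ∈ S
  | [], _, x, hx => by rw [evalW, M4.mul_one]; exact hx
  | i :: w, hw, x, hx => by
    rw [evalW, ← M4.mul_assoc']
    exact evalW_mul_mem h w (fun j hj => hw j (List.mem_cons_of_mem _ hj)) _
      (h x hx i (hw i List.mem_cons_self))

theorem f4Elts_closed : ∀ k ≤ 4, M4.one ∈ f4Elts k ∧ ∀ x ∈ f4Elts k, ∀ g < k, x.mul (f4R g) ∈ f4Elts k := by
  intro k
  induction k with
  | zero => exact fun _ => ⟨List.mem_singleton.2 rfl, fun _ _ g hg => absurd hg (Nat.not_lt_zero g)⟩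
  | succ k ih =>
    intro hk
    obtain ⟨h1, h2⟩ := ih (by omega)
    have hc := List.all_eq_true.1 f4_checkLevel k (List.mem_range.2 (by omega))
    simp only [checkLevel, Bool.and_eq_true, List.all_eq_true, List.mem_range, decide_eq_true_eq,
      beq_iff_eq] at hc
    obtain ⟨⟨h0, hlen⟩, hc⟩ := hc
    set L := f4Levels.getD k ([], [])
    have hmem : ∀ x ∈ f4Elts k, ∀ r < L.1.length, x.mul (evalW (L.1.getD r [])) ∈ f4Elts (k + 1) := by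
      intro x hx r hr
      refine List.mem_flatMap.2 ⟨x, hx, List.mem_map.2 ⟨_, ?_, rfl⟩⟩
      rw [List.getD_eq_getElem _ _ hr]
      exact List.getElem_mem hr
    refine ⟨?_, fun x hx g hg => ?_⟩
    · have := hmem _ h1 0 hlen
      rwa [show L.1.getD 0 [] = L.1.getD 0 [0] by rw [List.getD_eq_getElem _ _ hlen, List.getD_eq_getElem _ _ hlen],
        h0, evalW, M4.mul_one] at this
    · obtain ⟨y, hy, hx⟩ := List.mem_flatMap.1 hx
      obtain ⟨w, hw, rfl⟩ := List.mem_map.1 hx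
      obtain ⟨r, hr, rfl⟩ := List.getElem_of_mem hw
      obtain ⟨⟨ha, hb⟩, he⟩ := hc r hr g hg
      rw [List.getD_eq_getElem _ [] hr] at he
      rw [M4.mul_assoc', he, ← M4.mul_assoc']
      exact hmem _ (evalW_mul_mem h2 _ ha _ hy) _ hb

theorem evalW_mem {w : List ℕ} (hw : ∀ i ∈ w, i < 4) : evalW w ∈ f4Elts 4 := by
  have h := f4Elts_closed 4 le_rfl
  have := evalW_mul_mem h.2 w hw _ h.1
  rwa [M4.one_mul] at this

/-- three by three determinants -/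
def det3 (a b c d e f g h i : ℤ) : ℤ := a * (e * i - f * h) - b * (d * i - f * g) + c * (d * h - e * g)

/-- the characteristic polynomial at a value -/
def M4.chi (A : M4) (s : ℤ) : ℤ :=
  (s - A.r0.a) * det3 (s - A.r1.b) (-A.r1.c) (-A.r1.d) (-A.r2.b) (s - A.r2.c) (-A.r2.d) (-A.r3.b) (-A.r3.c) (s - A.r3.d)
    + A.r0.b * det3 (-A.r1.a) (-A.r1.c) (-A.r1.d) (-A.r2.a) (s - A.r2.c) (-A.r2.d) (-A.r3.a) (-A.r3.c) (s - A.r3.d)
    - A.r0.c * det3 (-A.r1.a) (s - A.r1.b) (-A.r1.d) (-A.r2.a) (-A.r2.b) (-A.r2.d) (-A.r3.a) (-A.r3.b) (s - A.r3.d)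
    + A.r0.d * det3 (-A.r1.a) (s - A.r1.b) (-A.r1.c) (-A.r2.a) (-A.r2.b) (s - A.r2.c) (-A.r3.a) (-A.r3.b) (-A.r3.c)

theorem M4.chi_eq (A : M4) (s : ℤ) : A.chi s = (Matrix.scalar (Fin 4) s - A.toM).det := by
  obtain ⟨⟨a, b, c, d⟩, ⟨e, f, g, h⟩, ⟨i, j, k, l⟩, ⟨m, n, o, p⟩⟩ := A
  simp only [M4.toM]
  have he : (Matrix.scalar (Fin 4) s - !![a, b, c, d; e, f, g, h; i, j, k, l; m, n, o, p]) =
      !![s - a, -b, -c, -d; -e, s - f, -g, -h; -i, -j, s - k, -l; -m, -n, -o, s - p] := by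
    ext u v
    rw [Matrix.sub_apply, Matrix.scalar_apply, Matrix.diagonal_apply]
    fin_cases u <;> fin_cases v <;> simp
  rw [he, Matrix.det_succ_row_zero, Fin.sum_univ_four]
  simp [M4.chi, det3, Matrix.det_fin_three, Fin.succAbove, Fin.lt_def]
  ring

/-- no element has the eigenvalue 3 modulo 11, or 3 modulo 7 and 2 modulo 5 together -/
def checkEigen (A : M4) : Bool :=
  decide (A.chi 3 % 11 ≠ 0) && !(decide (A.chi 3 % 7 = 0) && decide (A.chi 2 % 5 = 0))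

theorem f4_checkEigen : (f4Elts 4).all checkEigen = true := by decide +kernel

theorem f4_eigen {w : List ℕ} (hw : ∀ i ∈ w, i < 4) :
    ¬ (11 : ℤ) ∣ (Matrix.scalar (Fin 4) 3 - (evalW w).toM).det ∧
    ¬ ((7 : ℤ) ∣ (Matrix.scalar (Fin 4) 3 - (evalW w).toM).det ∧
      (5 : ℤ) ∣ (Matrix.scalar (Fin 4) 2 - (evalW w).toM).det) := by
  have h := List.all_eq_true.1 f4_checkEigen _ (evalW_mem hw)
  rw [← M4.chi_eq, ← M4.chi_eq]
  simp only [checkEigen, Bool.and_eq_true, decide_eq_true_eq, Bool.not_eq_true', Bool.and_eq_false_iff,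
    decide_eq_false_iff_not] at h
  refine ⟨fun hd => h.1 (Int.emod_eq_zero_of_dvd hd), fun hd => ?_⟩
  exact h.2.elim (fun h7 => h7 (Int.emod_eq_zero_of_dvd hd.1)) fun h5 => h5 (Int.emod_eq_zero_of_dvd hd.2)

end Cfsg.Agent.AltTorus12
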